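import Cfsg.Prelude
import Cfsg.Agent.H691.StExt
import Cfsg.Agent.H996.AllSplit_m3
import Cfsg.Agent.S4456
import Cfsg.Agent.S0887
import Cfsg.Agent.Blocks.Over
import Cfsg.Agent.Blocks.Basic
import Cfsg.Agent.H113.PSL.Facts
import Cfsg.Agent.H489.OutClassical
import Cfsg.Agent.H545.PQ.RowTool
import Cfsg.Agent.Blocks.CyclicUpper
import Cfsg.Agent.Prune
set_option linter.all false
prune_inst 0x7f00000000000000000000000000000000000000000000000000000000000000000000000000000000000000000000000000000000000000000000000000000000000000000000000000000000000000003fffffffffffffffffffffffffffbeffbdffffffff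
open scoped Cfsg.Agent.FastGrp

-- part: H693/FiveBase
section
/-!
# Five character degrees of an almost simple group (helper693)

General tools: `M` a normal simple nonabelian subgroup of `G` with trivial centralizer.

* `exists_above` : over an irreducible character of `M` of degree `e` there is one of `G` of degree `e x`, `x ∣ |G : M|`.
* `exists_coprime` : `p ∣ |M|`: `G` has a nonlinear irreducible character of degree prime to `p`.
* `exists_steinberg` : `M` of Lie type of characteristic `p`: `G` has an irreducible character of degree `p ^ k`, `k ≥ 1`.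
-/

set_option autoImplicit false

open Cfsg

namespace Cfsg.Agent.H693.FiveBase

universe u

variable {G : Type u} [Group G] [Finite G]

omit [Finite G] in
theorem one_mem : 1 ∈ charDegrees G := by
  refine ⟨⟨fun _ => 1, Characters.Core.isIrr_one⟩, ?_⟩
  apply Blocks.Basic.charDegree_of_eq
  simp

omit [Finite G] in
theorem not_comm (M : Subgroup G) (hc : Subgroup.centralizer (M : Set G) = ⊥) [IsSimpleGroup M] :
    ¬ ∀ x y : M, x * y = y * x := by
  intro h
  have h1 : M ≤ Subgroup.centralizer (M : Set G) := by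
    intro x hx y hy
    exact congrArg Subtype.val (h ⟨y, hy⟩ ⟨x, hx⟩)
  rw [hc, le_bot_iff] at h1
  have : Nontrivial M := inferInstance
  exact (Subgroup.nontrivial_iff_ne_bot M).1 this h1

theorem exists_above (M : Subgroup G) [M.Normal] (θ : IrrCharacter M) :
    ∃ x, x ∣ M.index ∧ charDegree (θ : M → ℂ) * x ∈ charDegrees G := by
  classical
  have : Fintype G := Fintype.ofFinite G
  have : Fintype M := Fintype.ofFinite M
  obtain ⟨χ, hχ⟩ := Blocks.Over.exists_over M θ
  obtain ⟨h1, h2⟩ := Cfsg.Agent.S0887.result M χ χ.2 θ θ.2 hχ _ _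
    (Blocks.Basic.irr_one_eq_charDegree χ.2) (Blocks.Basic.irr_one_eq_charDegree θ.2)
  exact ⟨_, h2, χ, (Nat.mul_div_cancel' h1).symm⟩

/-- a normal simple nonabelian subgroup with trivial centralizer of order divisible by `p`: no normal `p`-complement -/
theorem no_compl (M : Subgroup G) [M.Normal] (hc : Subgroup.centralizer (M : Set G) = ⊥) [IsSimpleGroup M]
    (hna : ¬ ∀ x y : M, x * y = y * x) {p : ℕ} (hp : p.Prime) (hpM : p ∣ Nat.card M)
    (N : Subgroup G) (hN : N.Normal) (hNp : (Nat.card N).Coprime p) {k : ℕ} (hk : N.index = p ^ k) : False := by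
  have : Fact p.Prime := ⟨hp⟩
  have hnor : (N.subgroupOf M).Normal := inferInstance
  rcases hnor.eq_bot_or_eq_top with h | h
  · have h1 : Disjoint M N := by
      rw [disjoint_iff, inf_comm, ← Subgroup.subgroupOf_map_subtype, h, Subgroup.map_bot]
    have h2 : N ≤ Subgroup.centralizer (M : Set G) := by
      intro n hn m hm
      have := Subgroup.commute_of_normal_of_disjoint M N inferInstance hN h1 m n hm hn
      exact this
    rw [hc, le_bot_iff] at h2
    subst h2
    rw [Subgroup.index_bot] at hk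
    have hG : IsPGroup p G := IsPGroup.of_card hk
    have hM : IsPGroup p M := hG.to_subgroup M
    have hnil : Group.IsNilpotent M := hM.isNilpotent
    have hZ : Subgroup.center M ≠ ⊥ := by
      have : Nontrivial M := inferInstance
      have := hM.bot_lt_center
      exact this.ne'
    rcases (inferInstance : (Subgroup.center M).Normal).eq_bot_or_eq_top with h3 | h3
    · exact hZ h3
    · apply hna
      intro x y
      have : x ∈ Subgroup.center M := by rw [h3]; exact Subgroup.mem_top x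
      exact ((Subgroup.mem_center_iff.1 this) y).symm
  · rw [Subgroup.subgroupOf_eq_top] at h
    have h1 : p ∣ Nat.card N := hpM.trans (Subgroup.card_dvd_of_le h)
    exact (Nat.Prime.coprime_iff_not_dvd hp).1 hNp.symm h1

theorem exists_coprime (M : Subgroup G) [M.Normal] (hc : Subgroup.centralizer (M : Set G) = ⊥) [IsSimpleGroup M]
    {p : ℕ} (hp : p.Prime) (hpM : p ∣ Nat.card M) :
    ∃ m ∈ charDegrees G, m ≠ 1 ∧ ¬ p ∣ m := by
  by_contra hcon
  push Not at hcon
  obtain ⟨N, hN, hNp, k, hk⟩ := Cfsg.Agent.S4456.result (G := G) p hp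
    (fun χ h1 => hcon _ ⟨χ, rfl⟩ h1)
  exact no_compl M hc (not_comm M hc) hp hpM N hN hNp hk

theorem exists_steinberg (M : Subgroup G) [M.Normal] [IsSimpleGroup M] {p : ℕ} (hp : p.Prime)
    (h : IsLieTypeChar p M) (hpM : p ∣ Nat.card M) : ∃ k, 1 ≤ k ∧ p ^ k ∈ charDegrees G := by
  have : Fact p.Prime := ⟨hp⟩
  have hs := H996.AllSplit.hasSplit_of_lie hp h
  obtain ⟨χ, h1, h2, h3⟩ := H691.StExt.exists_ext M hs
  obtain ⟨Q⟩ : Nonempty (Sylow p M) := inferInstance
  refine ⟨(Nat.card M).factorization p, ?_, ⟨χ, h1⟩, ?_⟩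
  · exact (hp.dvd_iff_one_le_factorization Nat.card_pos.ne').1 hpM
  · apply Blocks.Basic.charDegree_of_eq
    change χ 1 = _
    rw [h3 Q, Sylow.card_eq_multiplicity]

theorem five_of (S : Finset ℕ) (hS : (S : Set ℕ) ⊆ charDegrees G) {n : ℕ} (h : S.card = n) :
    n ≤ (charDegrees G).ncard := by
  have hfin : (charDegrees G).Finite := by
    have : Finite (IrrCharacter G) := Characters.Core.finite_irr
    exact Set.finite_range (fun χ : IrrCharacter G => charDegree (χ : G → ℂ))
  rw [← h, ← Set.ncard_coe_finset]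
  exact Set.ncard_le_ncard hS hfin

end Cfsg.Agent.H693.FiveBase
end

-- part: H693/FiveL3
section
/-!
# Five character degrees: socle `PSL_3(q)`, `q ≠ 2, 4` (helper693, task 549 for S4898)
-/

set_option autoImplicit false

open Cfsg Cfsg.Agent.H693.FiveBase

namespace Cfsg.Agent.H693.FiveL3

universe u

theorem index_dvd {G : Type u} [Group G] [Finite G] (M : Subgroup G) [M.Normal] [IsSimpleGroup M]
    (hc : Subgroup.centralizer (M : Set G) = ⊥)
    (F : Type) [Field F] [Fintype F] {p f : ℕ} (hp : p.Prime) (hf : 1 ≤ f) (hF : Fintype.card F = p ^ f)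
    (e : M ≃* Matrix.ProjectiveSpecialLinearGroup (Fin 3) F) :
    M.index ∣ 2 * Nat.gcd 3 (Fintype.card F - 1) * f := by
  have : Fact p.Prime := ⟨hp⟩
  have h1 := H545.PQ.index_dvd_out M hc
  have hA := S0813.result p f hf hF 3 (by norm_num) (by norm_num)
  rw [H489.card_pgl F (by norm_num), ← mul_assoc] at hA
  have ho := H489.card_out_of (fun h => not_comm M hc h.1.1) e hA
  rw [if_neg (by norm_num)] at ho
  refine h1.trans (dvd_of_eq ?_)
  rw [show (MulAut.conj : M →* MulAut M).range.index = Nat.card (Cfsg.Out M) from rfl, ho]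
  ring

/-- arithmetic: the two degrees are different -/
theorem arith {q f x r t g : ℕ} (h2f : 2 * f ≤ q) (hq : 2 ≤ q) (h4 : q ≠ 4) (hf : 1 ≤ f)
    (hg : g = Nat.gcd 3 (q - 1)) (ht : t ∣ g) (hr : r * t = q ^ 2 + q + 1) (hx : x ∣ 2 * g * f)
    (h : r ∣ x) : False := by
  have hx1 : r ≤ 2 * g * f := by
    refine Nat.le_of_dvd ?_ (h.trans hx)
    have : 0 < g := by rw [hg]; exact Nat.gcd_pos_of_pos_left _ (by norm_num)
    positivity
  have hg3 : g ∣ 3 := hg ▸ Nat.gcd_dvd_left _ _
  have hgq : g ∣ q - 1 := hg ▸ Nat.gcd_dvd_right _ _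
  rcases (Nat.dvd_prime Nat.prime_three).1 hg3 with h1 | h1
  · rw [h1] at ht hx1
    have ht1 : t = 1 := Nat.dvd_one.1 ht
    subst ht1
    linarith only [h2f, hx1, hr, _root_.sq_nonneg (↑q : ℤ)]
  · have ht3 : t ≤ 3 := Nat.le_of_dvd (by norm_num) (h1 ▸ ht)
    rw [h1] at hx1 hgq
    have h7 : 7 ≤ q := by
      by_contra hlt
      have : q = 2 ∨ q = 3 ∨ q = 5 ∨ q = 6 := by (clear * - hq h4 hlt; omega)
      rcases this with rfl | rfl | rfl | rfl <;> norm_num at hgq
    have h5 : q ^ 2 + q + 1 ≤ 18 * f := by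
      rw [← hr]
      calc r * t ≤ (2 * 3 * f) * 3 := Nat.mul_le_mul hx1 ht3
        _ = 18 * f := by ring
    have h6 : q ≤ 8 := by nlinarith only [h2f, h5]
    have : q = 7 ∨ q = 8 := by omega
    rcases this with rfl | rfl <;> omega

theorem five_L3 {G : Type u} [Group G] [Finite G] (M : Subgroup G) (hM : M.Normal)
    (hc : Subgroup.centralizer (M : Set G) = ⊥)
    (F : Type) [Field F] [Fintype F] (h2 : Fintype.card F ≠ 2) (h4 : Fintype.card F ≠ 4)
    (e : Nonempty (M ≃* Matrix.ProjectiveSpecialLinearGroup (Fin 3) F)) :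
    5 ≤ (Cfsg.charDegrees G).ncard := by
  classical
  obtain ⟨e⟩ := e
  obtain ⟨p, f, hp, hf, hF, h2f, hq⟩ := H489.exists_pf F
  have : Fact p.Prime := ⟨hp⟩
  have hchar : CharP F p := charP_of_card_eq_prime_pow hF
  have hsP : IsSimpleGroup (Matrix.ProjectiveSpecialLinearGroup (Fin 3) F) :=
    Cfsg.Agent.S0249.result 3 (by norm_num)
  have hsM : IsSimpleGroup M := e.isSimpleGroup
  have hlie : IsLieTypeChar p M :=
    Or.inl ⟨F, inferInstance, inferInstance, hchar, 3, by norm_num, by norm_num, ⟨e⟩⟩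
  have hidx := index_dvd M hc F hp hf hF e
  -- the two characters of `M`
  obtain ⟨φ5, h5⟩ := H113.PSL.Facts.t3 (F := F) (n := 3) (by norm_num)
  obtain ⟨φ3, t, ht, h3⟩ := H113.PSL.Three.exists_st (F := F) h2 h4
  set q := Fintype.card F with hqdef
  have hpq : p ∣ q := by rw [hF]; exact dvd_pow_self p (by omega)
  have h5' : charDegree φ5.1 = q * (q + 1) := by
    rw [h5]
    simp [Finset.sum_range_succ, add_comm]
  have h3' : charDegree φ3.1 * t = q * (q ^ 2 + q + 1) := by
    apply Nat.eq_of_mul_eq_mul_right (show 0 < q - 1 by omega)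
    rw [h3]
    obtain ⟨k, hk⟩ : ∃ k, q = k + 1 := ⟨q - 1, by omega⟩
    rw [hk]
    simp only [Nat.add_sub_cancel]
    have : (k + 1) ^ 3 - 1 = k * (k ^ 2 + 3 * k + 3) := by
      have : (k + 1) ^ 3 = k * (k ^ 2 + 3 * k + 3) + 1 := by ring
      omega
    rw [this]
    ring
  have ht3 : t ∣ 3 := ht.trans (Nat.gcd_dvd_left _ _)
  have htq : t ∣ q - 1 := ht.trans (Nat.gcd_dvd_right _ _)
  have htcop : Nat.Coprime t q := by
    have h1 : Nat.Coprime (q - 1) q := by
      have : q = (q - 1) + 1 := by omega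
      nth_rewrite 2 [this]
      simp
    exact Nat.Coprime.coprime_dvd_left htq h1
  obtain ⟨r, hr⟩ : t ∣ q ^ 2 + q + 1 := by
    have : t ∣ q * (q ^ 2 + q + 1) := ⟨_, by rw [← h3', mul_comm]⟩
    exact htcop.dvd_of_dvd_mul_left this
  have ht0 : 0 < t := Nat.pos_of_dvd_of_pos ht3 (by norm_num)
  have h3'' : charDegree φ3.1 = q * r := by
    apply Nat.eq_of_mul_eq_mul_right ht0
    rw [h3', hr]
    ring
  have hrq : Nat.Coprime r q := by
    have h1 : Nat.Coprime (q ^ 2 + q + 1) q := by
      have : q ^ 2 + q + 1 = q * (q + 1) + 1 := by ring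
      rw [this]
      simp
    exact Nat.Coprime.coprime_dvd_left ⟨t, by rw [hr, mul_comm]⟩ h1
  have hrq1 : Nat.Coprime r (q + 1) := by
    have h1 : Nat.Coprime (q ^ 2 + q + 1) (q + 1) := by
      have : q ^ 2 + q + 1 = (q + 1) * q + 1 := by ring
      rw [this]
      simp
    exact Nat.Coprime.coprime_dvd_left ⟨t, by rw [hr, mul_comm]⟩ h1
  have hr1 : r ≠ 1 := by
    rintro rfl
    have : t ≤ 3 := Nat.le_of_dvd (by norm_num) ht3
    nlinarith only [hf, h2f, hr, this]
  have hpr : ¬ p ∣ r := fun h => hp.one_lt.ne' (Nat.dvd_one.1 ((Nat.coprime_iff_gcd_eq_one.1 hrq) ▸ Nat.dvd_gcd h hpq))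
  have hpq1 : ¬ p ∣ q + 1 := by
    intro h
    have := (Nat.dvd_add_right hpq).1 h
    exact hp.one_lt.ne' (Nat.dvd_one.1 this)
  -- transport to `M`
  have tr : ∀ φ : IrrCharacter (Matrix.ProjectiveSpecialLinearGroup (Fin 3) F),
      ∃ θ : IrrCharacter M, charDegree (θ : M → ℂ) = charDegree φ.1 := by
    intro φ
    refine ⟨⟨φ.1 ∘ e, Characters.Core.isIrr_comp e.toMonoidHom e.surjective φ.2⟩, ?_⟩
    apply Blocks.Basic.charDegree_of_eq
    change φ.1 (e 1) = _
    rw [map_one]
    exact Blocks.Basic.irr_one_eq_charDegree φ.2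
  obtain ⟨θ5, e5⟩ := tr φ5
  obtain ⟨θ3, e3⟩ := tr φ3
  obtain ⟨x, hx, h5x⟩ := exists_above M θ5
  obtain ⟨y, hy, h3y⟩ := exists_above M θ3
  rw [e5, h5'] at h5x
  rw [e3, h3''] at h3y
  -- `p` divides `|M|`
  have hdiv : q * (q + 1) ∣ Nat.card M := by
    rw [← h5', ← e5]
    exact Cfsg.Agent.Blocks.CyclicUpper.charDegree_dvd θ5.2
  have hpM : p ∣ Nat.card M := (hpq.trans (Dvd.intro _ rfl)).trans hdiv
  obtain ⟨m, hm, hm1, hpm⟩ := exists_coprime M hc hp hpM
  obtain ⟨k, hk, hs⟩ := exists_steinberg M hp hlie hpM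
  have hp5 : p ∣ q * (q + 1) * x := (hpq.trans (Dvd.intro _ rfl)).trans (Dvd.intro _ rfl)
  have hp3 : p ∣ q * r * y := (hpq.trans (Dvd.intro _ rfl)).trans (Dvd.intro _ rfl)
  have hpk : p ∣ p ^ k := dvd_pow_self p (by omega)
  have n1 : ∀ d, p ∣ d → d ≠ 1 := fun d hd h => hp.one_lt.ne' (Nat.dvd_one.1 (h ▸ hd))
  have nm : ∀ d, p ∣ d → d ≠ m := fun d hd h => hpm (h ▸ hd)
  have nk : ∀ d a, a ∣ d → a ≠ 1 → ¬ p ∣ a → d ≠ p ^ k := by
    intro d a had ha hpa h
    rw [h] at had
    obtain ⟨i, -, rfl⟩ := (Nat.dvd_prime_pow hp).1 had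
    rcases Nat.eq_zero_or_pos i with h0 | h0
    · exact ha (by rw [h0, pow_zero])
    · exact hpa (dvd_pow_self p h0.ne')
  have n53 : q * (q + 1) * x ≠ q * r * y := by
    intro h
    have h6 : r ∣ x := by
      have : r ∣ q * (q + 1) * x := ⟨q * y, by rw [h]; ring⟩
      exact (Nat.Coprime.mul_right hrq hrq1).dvd_of_dvd_mul_left this
    exact arith h2f hq h4 hf rfl ht (by rw [hr, mul_comm]) (hx.trans hidx) h6
  refine five_of (S := {1, m, p ^ k, q * (q + 1) * x, q * r * y}) ?_ ?_
  · intro d hd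
    simp only [Finset.coe_insert, Finset.coe_singleton, Set.mem_insert_iff, Set.mem_singleton_iff] at hd
    rcases hd with rfl | rfl | rfl | rfl | rfl
    · exact _root_.Cfsg.Agent.H693.FiveBase.one_mem
    · exact hm
    · exact hs
    · exact h5x
    · exact h3y
  · rw [Finset.card_insert_of_notMem, Finset.card_insert_of_notMem, Finset.card_insert_of_notMem,
      Finset.card_insert_of_notMem, Finset.card_singleton]
    · simpa using n53
    · simp only [Finset.mem_insert, Finset.mem_singleton, not_or]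
      refine ⟨fun h => nk _ (q + 1) ⟨q * x, by ring⟩ (by omega) hpq1 h.symm,
        fun h => nk _ r ⟨q * y, by ring⟩ hr1 hpr h.symm⟩
    · simp only [Finset.mem_insert, Finset.mem_singleton, not_or]
      exact ⟨fun h => nm _ hpk h.symm, fun h => nm _ hp5 h.symm, fun h => nm _ hp3 h.symm⟩
    · simp only [Finset.mem_insert, Finset.mem_singleton, not_or]
      exact ⟨fun h => hm1 h.symm, fun h => n1 _ hpk h.symm, fun h => n1 _ hp5 h.symm, fun h => n1 _ hp3 h.symm⟩

end Cfsg.Agent.H693.FiveL3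
end
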